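import Groth.Agent.L17.CDInj.Pairing
import Groth.Agent.L10.ShriekLoc.FieldSupp
import Groth.Agent.L10.ShriekLoc.CM
import Groth.Agent.L10.DeformDual.Single
import Groth.Agent.L02.CMMor.Locus
import Groth.Agent.S1766

/-!
# Serre duality for proper Cohen–Macaulay schemes with closed points of one dimension
-/

set_option autoImplicit false
set_option backward.defeqAttrib.useBackward true
set_option backward.isDefEq.respectTransparency false
set_option backward.isDefEq.respectTransparency.types false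
set_option linter.style.haveILetI false

universe u

open CategoryTheory CategoryTheory.Limits AlgebraicGeometry DerivedCategory CategoryTheory.Abelian
attribute [local instance] HasDerivedCategory.standard

noncomputable section

namespace Groth.L17.CartierDual

open Groth.L29 Groth.L29.DC
open Groth.L16.CohLinear (hmap)

/-- A point with local ring of dimension at least `n` lies on a component of dimension at least `n`. -/
theorem exists_component {X : Scheme.{u}} (x : X) (n : ℕ) (h : (n : WithBot ℕ∞) ≤ ringKrullDim (X.presheaf.stalk x)) :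
    ∃ Z ∈ irreducibleComponents X, x ∈ Z ∧ (n : WithBot ℕ∞) ≤ topologicalKrullDim ↥Z := by
  obtain ⟨l, hl⟩ := (Order.le_krullDim_iff (n := n)).1 h
  let A := X.presheaf.stalk x
  let P := l.head.asIdeal
  haveI : P.IsPrime := l.head.2
  let g : PrimeSpectrum (A ⧸ P) → X := fun q => X.fromSpecStalk x (PrimeSpectrum.comap (Ideal.Quotient.mk P) q)
  have hg : Topology.IsInducing g :=
    (X.fromSpecStalk x).isEmbedding.isInducing.comp
      (PrimeSpectrum.isClosedEmbedding_comap_of_surjective _ (Ideal.Quotient.mk P)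
        Ideal.Quotient.mk_surjective).isInducing
  let η : PrimeSpectrum (A ⧸ P) := ⟨⊥, Ideal.isPrime_bot⟩
  refine ⟨irreducibleComponent (g η), irreducibleComponent_mem_irreducibleComponents _, ?_, ?_⟩
  · refine closure_minimal (Set.singleton_subset_iff.2 mem_irreducibleComponent) isClosed_irreducibleComponent
      (specializes_iff_mem_closure.1 ?_)
    let m : PrimeSpectrum A := IsLocalRing.closedPoint A
    have h1 : (PrimeSpectrum.comap (Ideal.Quotient.mk P) η) ⤳ m :=
      (PrimeSpectrum.le_iff_specializes _ _).1 (IsLocalRing.le_maximalIdeal (Ideal.IsPrime.ne_top inferInstance))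
    have := h1.map (X.fromSpecStalk x).continuous
    rwa [Scheme.fromSpecStalk_closedPoint] at this
  · have hsub : ∀ q, g q ∈ irreducibleComponent (g η) := fun q =>
      closure_minimal (Set.singleton_subset_iff.2 mem_irreducibleComponent) isClosed_irreducibleComponent
        (specializes_iff_mem_closure.1
          (((PrimeSpectrum.le_iff_specializes η q).1 bot_le).map hg.continuous))
    refine le_trans ?_ (Topology.IsInducing.topologicalKrullDim_le
      (f := fun q => (⟨g q, hsub q⟩ : irreducibleComponent (g η))) (hg.codRestrict hsub))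
    rw [PrimeSpectrum.topologicalKrullDim_eq_ringKrullDim, ringKrullDim_quotient]
    let l' : LTSeries (PrimeSpectrum.zeroLocus (P : Set A)) :=
      LTSeries.mk l.length (fun i => ⟨l i, fun a ha => (show P ≤ (l i).asIdeal from
        l.monotone (Fin.zero_le i)) ha⟩) fun i j hij => l.strictMono hij
    exact le_trans (le_of_eq (show (n : WithBot ℕ∞) = (l'.length : WithBot ℕ∞) by rw [← hl]; rfl)) (le_iSup (fun l : LTSeries _ => (l.length : WithBot ℕ∞)) l')

variable (k : Type u) [Field k] {X : Scheme.{u}} [X.Over (Spec (CommRingCat.of k))]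
  [IsProper (X ↘ Spec (CommRingCat.of k))] (n : ℕ) (hn : topologicalKrullDim ↥X = n)
  (hCM : ∀ x : X, LocCoh.IsCohenMacaulayLocalRing (X.presheaf.stalk x))
  (heq : ∀ x : X, IsClosed ({x} : Set ↥X) → ringKrullDim (X.presheaf.stalk x) = n)

include hn hCM heq in
theorem exists_single [DCoh.HasRpush (X ↘ Spec (CommRingCat.of k))]
    {h : DCoh.RpushPreservesQCoh (X ↘ Spec (CommRingCat.of k))}
    {a : DCoh.DQCoh (Spec (CommRingCat.of k)) ⥤ DCoh.DQCoh X}
    (adj : DCoh.RpushQ (X ↘ Spec (CommRingCat.of k)) h ⊣ a) (O : DCoh.DQCoh (Spec (CommRingCat.of k)))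
    (hO : Nonempty (O.obj ≅ DCoh.inD (Spec (CommRingCat.of k)) (Coh.structureModule (Spec (CommRingCat.of k))))) :
    ∃ ω : X.Modules, Coh.IsCoh ω ∧ Nonempty ((a.obj O).obj ≅ (DCoh.inD X ω)⟦(n : ℤ)⟧) := by
  let f := X ↘ Spec (CommRingCat.of k)
  haveI := fun {A B : Scheme.{u}} (g : A ⟶ B) => Groth.L00.KFlat.hasLpull g
  haveI := fun (R : CommRingCat.{u}) => Groth.L18.TildeF.tilde_preservesFiniteLimits (R := R)
  haveI hP : ∀ (U V : Scheme.{u}) (j : U ⟶ V) [IsOpenImmersion j],
      PreservesFiniteLimits (Scheme.Modules.restrictFunctor j) := fun U V j _ => inferInstance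
  haveI : IsLocallyNoetherian X := LocallyOfFiniteType.isLocallyNoetherian f
  haveI : CompactSpace X := QuasiCompact.compactSpace_of_compactSpace f
  let c : DEt.Compactification f := ⟨X, 𝟙 X, f, inferInstance, inferInstance, Category.id_comp f⟩
  haveI : DCoh.HasRpush c.fbar := ‹DCoh.HasRpush f›
  obtain ⟨r⟩ := nonempty_Lpull_iso_restrictD (𝟙 X) (a.obj O).obj
  obtain ⟨l⟩ := Groth.L10.FMDiag.nonempty_Lpull_id (X := X)
  let S := (DCoh.restrictD (𝟙 X)).obj (a.obj O).obj
  let eS : S ≅ (a.obj O).obj := r.symm ≪≫ l.app _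
  let K := (a.obj O).obj
  have hpt : ∀ (i : ℤ), i ≠ -(n : ℤ) → ∀ y : X, Subsingleton ((DCoh.HD K i).presheaf.stalk y) := by
    intro i hi y
    obtain ⟨x, hxy, hxc⟩ := (isClosed_closure (s := ({y} : Set X))).exists_closed_singleton
      ⟨y, subset_closure rfl⟩
    have hfib : MoreMor.IsCMAt f x := by
      letI := (f.stalkMap x).hom.toAlgebra
      refine ⟨Flat.stalkMap f _, (L02.CMMor.cm_fibre_iff f x).1 ?_⟩
      have hm : IsLocalRing.maximalIdeal ((Spec (CommRingCat.of k)).presheaf.stalk (f x)) = ⊥ := by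
        letI : Algebra k ((Spec (CommRingCat.of k)).presheaf.stalk (f x)) :=
          StructureSheaf.stalkAlgebra (CommRingCat.of k) (f x)
        haveI : IsLocalization.AtPrime ((Spec (CommRingCat.of k)).presheaf.stalk (f x)) (f x).asIdeal :=
          StructureSheaf.IsLocalization.to_stalk (CommRingCat.of k) (f x)
        rw [← IsLocalization.AtPrime.map_eq_maximalIdeal (f x).asIdeal
          ((Spec (CommRingCat.of k)).presheaf.stalk (f x)),
          show (f x).asIdeal = ⊥ from (Ideal.eq_bot_or_top _).resolve_right (f x).2.ne_top, Ideal.map_bot]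
      exact L02.CMMor.cm_of_ringEquiv ((RingEquiv.quotientBot _).symm.trans
        (Ideal.quotEquivOfEq (by unfold EGA4.mB; rw [hm, Ideal.map_bot]))) (hCM x)
    obtain ⟨d, C, ⟨z, hz⟩, hC⟩ := Groth.L10.ShriekLoc.exists_chart_single c adj O hO x hfib
    have hst : ∀ (j : ℤ) (w : X), Nontrivial ((DCoh.HD K j).presheaf.stalk w) ↔
        Nontrivial ((DCoh.HD S j).presheaf.stalk w) := fun j w =>
      ((Groth.L00.Stk.F X w).mapIso ((DerivedCategory.homologyFunctor X.Modules j).mapIso eS)
        ).symm.toLinearEquiv.toEquiv.nontrivial_congr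
    have hdn : d = n := by
      obtain ⟨Z, hZ, hxZ, hZd⟩ := exists_component x n (heq x hxc).ge
      have hnt := (hst _ x).1 (Groth.L10.ShriekLoc.component_subset k adj O hO n hn.le Z hZ hZd hxZ)
      by_contra hne
      exact (hC z).2.1 (-(n : ℤ)) (by omega) (hz ▸ hnt)
    subst hdn
    obtain ⟨w, hw⟩ := (specializes_iff_mem_closure.2 hxy).mem_open C.jU.isOpenEmbedding.isOpen_range ⟨z, hz⟩
    refine not_nontrivial_iff_subsingleton.1 fun hnt => (hC w).2.1 i hi ?_
    rw [hw]
    exact (hst _ y).1 hnt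
  haveI : K.IsGE (-(n : ℤ)) := (DerivedCategory.isGE_iff K _).2 fun i hi =>
    (Groth.L21.Mod.isZero_iff_stalk_subsingleton _).2 fun y => hpt i (by omega) y
  haveI : K.IsLE (-(n : ℤ)) := (DerivedCategory.isLE_iff K _).2 fun i hi =>
    (Groth.L21.Mod.isZero_iff_stalk_subsingleton _).2 fun y => hpt i (by omega) y
  obtain ⟨e₀⟩ := Groth.L10.exists_iso_single_H K (-(n : ℤ))
  exact ⟨DCoh.HD K (-(n : ℤ)), Groth.L10.ShriekLoc.isCoh_field k adj O hO _, ⟨e₀ ≪≫
    (((DerivedCategory.singleFunctors X.Modules).shiftIso (n : ℤ) (-(n : ℤ)) 0 (by omega)).app _).symm⟩⟩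

include hn hCM heq in
/-- Serre duality in all degrees for a proper Cohen–Macaulay scheme. -/
theorem exists_duality [HasExt.{u} X.Modules] :
    ∃ ω : X.Modules, Coh.IsCoh ω ∧ ∀ i p : ℕ, i + p = n →
      ∃ Φ : ∀ G : X.Modules, Ext.{u} G ω p → (Coh.HH X G i →ₗ[k] k),
        (∀ G : X.Modules, Coh.IsQCoh G → Function.Bijective (Φ G)) ∧
        (∀ (G : X.Modules) (y y' : Ext.{u} G ω p), Φ G (y + y') = Φ G y + Φ G y') ∧
        ∀ (G G' : X.Modules) (g : G' ⟶ G) (y : Ext.{u} G ω p) (z : Coh.HH X G' i),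
          Φ G' ((Ext.mk₀ g).comp y (zero_add p)) z = Φ G y (hmap g i z) := by
  let f := X ↘ Spec (CommRingCat.of k)
  haveI := fun (R : CommRingCat.{u}) => Groth.L18.TildeF.tilde_preservesFiniteLimits (R := R)
  haveI : IsLocallyNoetherian X := LocallyOfFiniteType.isLocallyNoetherian f
  haveI : CompactSpace X := QuasiCompact.compactSpace_of_compactSpace f
  haveI : AlgebraicGeometry.IsNoetherian X := {}
  haveI : DCoh.HasRpush f := RpushQC.hasRpush f
  have h : DCoh.RpushPreservesQCoh f := fun K hK => RpushQC.isQCohD_Rpush f K hK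
  haveI := Groth.Agent.S1766.result X (Spec (CommRingCat.of k)) f h
  let adj := Adjunction.ofIsLeftAdjoint (ObjectProperty.lift DCoh.IsQCohD
    (ObjectProperty.ι DCoh.IsQCohD ⋙ DCoh.Rpush f) (fun K => h K.obj K.property))
  let W : DCoh.DQCoh (Spec (CommRingCat.of k)) :=
    ⟨(DCoh.tildeD (CommRingCat.of k)).obj (Dual.inD k k), (TildeD.isQCohD_iff (R := CommRingCat.of k) _).2
      ⟨_, ⟨Iso.refl _⟩⟩⟩
  haveI : PreservesFiniteColimits (tilde.functor (CommRingCat.of k)) :=
    haveI : PreservesColimitsOfSize.{0, 0} (tilde.functor (CommRingCat.of k)) := tilde.adjunction.leftAdjoint_preservesColimits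
    inferInstance
  obtain ⟨ω, hω, ⟨eK⟩⟩ := exists_single k n hn hCM heq (h := h) adj W
    ⟨((tilde.functor (CommRingCat.of k)).mapDerivedCategorySingleFunctor 0).app (ModuleCat.of k k) ≪≫
      (DerivedCategory.singleFunctor (Spec (CommRingCat.of k)).Modules 0).mapIso tildeSelf⟩
  exact ⟨ω, hω, fun i p hip => Groth.L17.CDInj.exists_pairing (h := h) adj W (Iso.refl _) ω n eK i p hip⟩

end Groth.L17.CartierDual
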