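import Groth.Agent.L02.InterH0.Stalk
import Groth.Agent.L20.Infinitesimal.Flat
import Groth.Agent.L07.BlowLib.CMBlow
import Mathlib.RingTheory.KrullDimension.Regular

/-!
# The local rings of an effective Cartier divisor
-/

set_option autoImplicit false
set_option backward.isDefEq.respectTransparency false
set_option backward.isDefEq.respectTransparency.types false
set_option linter.style.haveILetI false

universe u

open CategoryTheory AlgebraicGeometry

noncomputable section

namespace Groth.L17.CartierDual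

open Groth.L21.RR (st one bijective_smul_one)
open Groth.L21.CurveAdj (stI)

variable {D X : Scheme.{u}} (i : D ⟶ X) [IsClosedImmersion i]

/-- The local equation of an effective Cartier divisor. -/
theorem exists_equation (hI : PicF.IsInvertible (ClSub.idealMod i.ker)) (d : D) :
    ∃ a : X.presheaf.stalk (i d), a ∈ IsLocalRing.maximalIdeal (X.presheaf.stalk (i d)) ∧
      IsSMulRegular (X.presheaf.stalk (i d)) a ∧
      Nonempty ((X.presheaf.stalk (i d) ⧸ Ideal.span {a}) ≃+* D.presheaf.stalk d) := by
  obtain ⟨a, e, he, ha, hspan⟩ := Groth.L02.InterH0.exists_gen_stI (i d) hI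
  have hker : RingHom.ker (i.stalkMap d).hom = Ideal.span {a} := by
    obtain ⟨U, hU, hxU, -⟩ := exists_isAffineOpen_mem_and_subset (x := i d) (U := (⊤ : X.Opens)) trivial
    rw [Groth.L20.Infinitesimal.ker_stalkMap i d, Groth.L20.SeeNormal.sI_eq i.ker ⟨U, hU⟩ hxU, ← hspan,
      Groth.L21.CurveAdj.stI_eq_map i.ker hU hxU]
  refine ⟨a, ?_, ?_, ⟨(Ideal.quotEquivOfEq hker.symm).trans
    (RingHom.quotientKerEquivOfSurjective (i.stalkMap_surjective d))⟩⟩
  · refine IsLocalRing.le_maximalIdeal (RingHom.ker_ne_top (i.stalkMap d).hom) ?_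
    rw [hker]
    exact Ideal.mem_span_singleton_self a
  · intro r s hrs
    haveI : Mono (ClSub.idealModι i.ker) := inferInstanceAs (Mono (Limits.kernel.ι _))
    have hι := (Groth.L21.Mod.mono_iff_stalk_injective (ClSub.idealModι i.ker)).1 inferInstance (i d)
    refine he.1 (hι ?_)
    show st (ClSub.idealModι i.ker) (i d) (r • e) = st (ClSub.idealModι i.ker) (i d) (s • e)
    rw [map_smul, map_smul, ha, smul_smul, smul_smul, mul_comm r, mul_comm s]
    exact congrArg (· • one X (i d)) hrs

theorem cm_stalk (hI : PicF.IsInvertible (ClSub.idealMod i.ker)) (d : D) [IsLocallyNoetherian X]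
    (h : LocCoh.IsCohenMacaulayLocalRing (X.presheaf.stalk (i d))) :
    LocCoh.IsCohenMacaulayLocalRing (D.presheaf.stalk d) := by
  obtain ⟨a, ha, hreg, ⟨e⟩⟩ := exists_equation i hI d
  have h1 := Groth.L07.BlowLib.cm_quot_of_cm h [a] ((RingTheory.Sequence.isWeaklyRegular_singleton_iff _ _).2 hreg)
    (fun r hr => (List.mem_singleton.1 hr) ▸ ha)
  rw [Ideal.ofList_singleton] at h1
  exact L02.CMMor.cm_of_ringEquiv e h1

theorem dim_stalk (hI : PicF.IsInvertible (ClSub.idealMod i.ker)) (d : D) [IsLocallyNoetherian X] :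
    ringKrullDim (D.presheaf.stalk d) + 1 = ringKrullDim (X.presheaf.stalk (i d)) := by
  obtain ⟨a, ha, hreg, ⟨e⟩⟩ := exists_equation i hI d
  rw [← ringKrullDim_eq_of_ringEquiv e]
  exact ringKrullDim_quotient_span_singleton_succ_eq_ringKrullDim_of_mem_jacobson hreg
    (by rwa [IsLocalRing.ringJacobson_eq_maximalIdeal])

end Groth.L17.CartierDual
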