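import Groth.Agent.L17.CartierDual.Seq
import Groth.Agent.L17.CartierDual.Dual
import Groth.Agent.L17.CartierDual.Local
import Groth.Agent.L17.LocDual.Degree
import Groth.Agent.L10.FMK.SuppDim
import Groth.Agent.L18.PushHLin
import Groth.Agent.S13308
import Groth.Agent.L16.QcqsPush
import Groth.Agent.L22.Adjunction.ExtTop

/-!
# The dualizing module of an effective Cartier divisor
-/

set_option autoImplicit false
set_option backward.defeqAttrib.useBackward true
set_option backward.isDefEq.respectTransparency false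
set_option backward.isDefEq.respectTransparency.types false
set_option linter.style.haveILetI false

universe u

open CategoryTheory CategoryTheory.Limits AlgebraicGeometry CategoryTheory.Abelian

noncomputable section

namespace Groth.L17.CartierDual

open Groth.L16.CohLinear (hmap)
open Groth.L12.VBLift (eta)

variable (k : Type u) [Field k] {X : Scheme.{u}} [X.Over (Spec (CommRingCat.of k))]
  [IsProper (X ↘ Spec (CommRingCat.of k))] (n : ℕ) (hn : topologicalKrullDim ↥X = n)
  (hCM : ∀ x : X, LocCoh.IsCohenMacaulayLocalRing (X.presheaf.stalk x))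
  (heq : ∀ x : X, IsClosed ({x} : Set ↥X) → ringKrullDim (X.presheaf.stalk x) = n)
  {D : Scheme.{u}} (i : D ⟶ X) [IsClosedImmersion i] (hI : PicF.IsInvertible (ClSub.idealMod i.ker))

theorem eq_of_add_one_eq {a : WithBot ℕ∞} (h : a + 1 = (n : WithBot ℕ∞)) :
    1 ≤ n ∧ a = ((n - 1 : ℕ) : WithBot ℕ∞) := by
  induction a using WithBot.recBotCoe with
  | bot => simp at h
  | coe a =>
    induction a using ENat.recTopCoe with
    | top =>
      refine absurd h fun h' => ?_
      have h2 : ((⊤ : ℕ∞) + 1) = (n : ℕ∞) := WithBot.coe_inj.1 h'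
      rw [top_add] at h2
      exact ENat.natCast_ne_top n h2.symm
    | coe a =>
      have h' : a + 1 = n := by exact_mod_cast h
      refine ⟨by omega, ?_⟩
      rw [show a = n - 1 by omega]
      rfl

include k hn heq hI in
theorem dim_closed (d : D) (hd : IsClosed ({d} : Set ↥D)) :
    1 ≤ n ∧ ringKrullDim (D.presheaf.stalk d) = ((n - 1 : ℕ) : WithBot ℕ∞) := by
  haveI : IsLocallyNoetherian X := LocallyOfFiniteType.isLocallyNoetherian (X ↘ Spec (CommRingCat.of k))
  have hx : IsClosed ({i d} : Set ↥X) := by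
    rw [← Set.image_singleton]
    exact i.isClosedEmbedding.isClosedMap _ hd
  exact eq_of_add_one_eq n ((dim_stalk i hI d).trans (heq _ hx))

include k hn heq hI in
theorem dim_le : topologicalKrullDim D ≤ ((n - 1 : ℕ) : WithBot ℕ∞) := by
  haveI : CompactSpace X := QuasiCompact.compactSpace_of_compactSpace (X ↘ Spec (CommRingCat.of k))
  haveI : CompactSpace D := i.isClosedEmbedding.compactSpace
  refine Groth.L19.DimTrdeg.dim_le_of_stalks fun y => ?_
  obtain ⟨d, hd, hdc⟩ := (isClosed_closure (s := ({y} : Set D))).exists_closed_singleton ⟨y, subset_closure rfl⟩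
  exact (Groth.L17.LocDual.ringKrullDim_stalk_mono (specializes_iff_mem_closure.2 hd)).trans
    (dim_closed k n hn heq i hI d hdc).2.le

include k hn heq hI in
theorem subsingleton_top (h1 : 1 ≤ n) (G : D.Modules) (hG : Coh.IsQCoh G) :
    Subsingleton (Coh.HH X ((Scheme.Modules.pushforward i).obj G) n) := by
  letI : D.Over (Spec (CommRingCat.of k)) := ⟨i ≫ (X ↘ Spec (CommRingCat.of k))⟩
  haveI : IsLocallyNoetherian X := LocallyOfFiniteType.isLocallyNoetherian (X ↘ Spec (CommRingCat.of k))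
  haveI : IsLocallyNoetherian D := LocallyOfFiniteType.isLocallyNoetherian i
  haveI : CompactSpace X := QuasiCompact.compactSpace_of_compactSpace (X ↘ Spec (CommRingCat.of k))
  haveI : CompactSpace D := i.isClosedEmbedding.compactSpace
  haveI : AlgebraicGeometry.IsNoetherian D := {}
  haveI := Groth.L10.FMK.subsingleton_HH_of_codim (dim_le k n hn heq i hI) G 0
    (fun y _ => by simpa using ringKrullDim_nonneg_of_nontrivial) n (by omega) (by omega)
  exact (Groth.L18.PushHLin.pushH (A := k) i rfl G hG n).toEquiv.subsingleton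

variable {OD : X.Modules} (hOD : ClSub.IsInverseOf OD (ClSub.idealMod i.ker))

include hn hCM heq hI hOD in
theorem exists_dual (ωX : X.Modules) (trX : Coh.HH X ωX n →ₗ[k] k) (hωX : Canon.IsRDualOver k X n ωX trX)
    (h1 : 1 ≤ n) :
    letI : D.Over (Spec (CommRingCat.of k)) := ⟨i ≫ (X ↘ Spec (CommRingCat.of k))⟩
    ∃ t : Coh.HH D ((Scheme.Modules.pullback i).obj (CohB1.tensorMod OD ωX)) (n - 1) →ₗ[k] k,
      Canon.IsRDualOver k D (n - 1) ((Scheme.Modules.pullback i).obj (CohB1.tensorMod OD ωX)) t := by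
  letI : D.Over (Spec (CommRingCat.of k)) := ⟨i ≫ (X ↘ Spec (CommRingCat.of k))⟩
  haveI := Groth.L00.Tensor.grothendieckAbelian_modules X
  haveI : HasExt.{u} X.Modules := CategoryTheory.hasExt_of_enoughInjectives _
  haveI : IsLocallyNoetherian X := LocallyOfFiniteType.isLocallyNoetherian (X ↘ Spec (CommRingCat.of k))
  obtain ⟨ω, hω, hdual⟩ := exists_duality k n hn hCM heq
  haveI := hω.1
  obtain ⟨Φ₀, hΦ₀, -, hΦ₀n⟩ := hdual n 0 (add_zero n)
  obtain ⟨Φ₁, hΦ₁, hΦ₁a, hΦ₁n⟩ := hdual (n - 1) 1 (by omega)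
  -- the dualizing module is unique
  let t₀ : Coh.HH X ω n →ₗ[k] k := Φ₀ ω (Ext.mk₀ (𝟙 ω))
  have hrd : Canon.IsRDualOver k X n ω t₀ := by
    refine ⟨hω.1, fun F hF => ?_⟩
    have he : Canon.dualityMap k X n ω t₀ F = fun φ : F ⟶ ω => Φ₀ F (Ext.mk₀ φ) := funext fun φ => by
      refine LinearMap.ext fun z => ?_
      have h := hΦ₀n ω F φ (Ext.mk₀ (𝟙 ω)) z
      rw [Ext.mk₀_comp_mk₀, Category.comp_id] at h
      exact h.symm
    rw [he]
    exact (hΦ₀ F hF).comp (Ext.mk₀_bijective F ω)
  obtain ⟨⟨ρ, hρ, -⟩, hiso⟩ := Groth.Agent.S13308.result k X n (fun y => le_of_le_of_eq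
    (((X ↘ Spec (CommRingCat.of k)).fiberι y).isEmbedding.isInducing.topologicalKrullDim_le) hn)
    ωX ω trX t₀ hωX hrd
  haveI := hiso ρ hρ
  let eω : ω ≅ ωX := asIso ρ
  haveI := hωX.1
  have hW : ∀ G : D.Modules, Coh.IsQCoh G → ∀ φ : (Scheme.Modules.pushforward i).obj G ⟶ ω, φ = 0 := by
    intro G hG φ
    haveI := subsingleton_top k n hn heq i hI h1 G hG
    have hq : Coh.IsQCoh ((Scheme.Modules.pushforward i).obj G) := by
      haveI := hG
      exact Groth.L16.QcqsPush.isQCoh_push (M := G) i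
    exact ((hrd.2 _ hq).1 (Subsingleton.elim (Canon.dualityMap k X n ω t₀ _ φ)
      (Canon.dualityMap k X n ω t₀ _ 0)))
  obtain ⟨s, w, hS, hs⟩ := exists_section i hI hOD
  obtain ⟨π, w', hex, hπ⟩ := exists_coker i s w hS ω
  haveI := mono_mulS i s hI hOD hW w hS
  have hSW : (ShortComplex.mk (mulS s ω) π w').ShortExact := { exact := hex }
  let Q := (Scheme.Modules.pullback i).obj (CohB1.tensorMod OD ω)
  haveI := Groth.L21.Extend.isQCoh_of_isInvertible (Groth.L13.PointBlow.isInvertible_of_isInverseOf hI hOD)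
  haveI := Groth.L00.Tensor.isQCoh_tensorMod OD ω
  haveI := Groth.L00.Tensor.isQCoh_tensorMod OD ωX
  haveI hQ : Coh.IsQCoh Q := Groth.L16.AffineBC.isQCoh_pullback i _
  let eQ : (Scheme.Modules.pullback i).obj (CohB1.tensorMod OD ωX) ≅ Q :=
    (Scheme.Modules.pullback i).mapIso (Groth.L00.Tensor.tensorIso (Iso.refl _) eω.symm)
  let Q' := (Scheme.Modules.pullback i).obj (CohB1.tensorMod OD ωX)
  haveI := Groth.L17.ClosedPush.isIso_counit i
  haveI : (Scheme.Modules.pushforward i).Full :=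
    (Scheme.Modules.pullbackPushforwardAdjunction i).fullyFaithfulROfIsIsoCounit.full
  haveI : (Scheme.Modules.pushforward i).Faithful :=
    (Scheme.Modules.pullbackPushforwardAdjunction i).fullyFaithfulROfIsIsoCounit.faithful
  have hpq : ∀ G : D.Modules, Coh.IsQCoh G → Coh.IsQCoh ((Scheme.Modules.pushforward i).obj G) := fun G hG => by
    haveI := hG
    exact Groth.L16.QcqsPush.isQCoh_push (M := G) i
  let P : ∀ G : D.Modules, Coh.IsQCoh G →
      (Coh.HH D G (n - 1) ≃ₗ[k] Coh.HH X ((Scheme.Modules.pushforward i).obj G) (n - 1)) := fun G hG =>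
    (Groth.L18.PushHLin.pushH (A := k) i rfl G hG (n - 1)).symm
  let c : ∀ G : D.Modules, (G ⟶ Q') → Ext.{u} ((Scheme.Modules.pushforward i).obj G) ω 1 := fun G φ =>
    (Ext.mk₀ ((Scheme.Modules.pushforward i).map (φ ≫ eQ.hom))).comp hSW.extClass (zero_add 1)
  have hc : ∀ (G : D.Modules), Coh.IsQCoh G → Function.Bijective (c G) := fun G hG => by
    refine (bijective_connecting i s hI hOD hW hs π w' hSW G hG).comp ?_
    exact Function.Bijective.comp (g := fun φ => (Scheme.Modules.pushforward i).map φ)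
      ⟨(Scheme.Modules.pushforward i).map_injective, (Scheme.Modules.pushforward i).map_surjective⟩
      ((Iso.homToEquiv eQ).bijective)
  have hQ' : Coh.IsQCoh Q' := Groth.L16.AffineBC.isQCoh_pullback i _
  let t := Φ₁ _ (c Q' (𝟙 Q')) ∘ₗ (P Q' hQ').toLinearMap
  refine ⟨t, hQ', fun F hF => ?_⟩
  have he : Canon.dualityMap k D (n - 1) Q' t F = fun φ : F ⟶ Q' => Φ₁ _ (c F φ) ∘ₗ (P F hF).toLinearMap :=
    funext fun φ => LinearMap.ext fun z => by
      change Φ₁ _ (c Q' (𝟙 Q')) (P Q' hQ' (Canon.HHlin k φ (n - 1) z)) = Φ₁ _ (c F φ) (P F hF z)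
      have hn' : P Q' hQ' (Canon.HHlin k φ (n - 1) z) =
          hmap ((Scheme.Modules.pushforward i).map φ) (n - 1) (P F hF z) := by
        refine (Groth.L18.PushHLin.pushH (A := k) i rfl Q' hQ' (n - 1)).injective ?_
        refine (LinearEquiv.apply_symm_apply _ _).trans ?_
        refine Eq.trans ?_ (Groth.L18.PushHLin.pushH_natural i rfl hF hQ' φ (n - 1) (P F hF z)).symm
        rw [LinearEquiv.apply_symm_apply]
      rw [hn', ← hΦ₁n]
      refine congrArg (fun y => Φ₁ _ y (P F hF z)) ?_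
      simp only [c]
      rw [← Ext.comp_assoc_of_second_deg_zero, Ext.mk₀_comp_mk₀, ← Functor.map_comp, Category.id_comp]
  rw [he]
  exact Function.Bijective.comp (g := fun l : Coh.HH X ((Scheme.Modules.pushforward i).obj F) (n - 1) →ₗ[k] k =>
      l ∘ₗ (P F hF).toLinearMap)
    ⟨fun a b hab => LinearMap.ext fun y => by
        obtain ⟨z, rfl⟩ := (P F hF).surjective y
        exact LinearMap.congr_fun hab z,
      fun l => ⟨l ∘ₗ (P F hF).symm.toLinearMap, LinearMap.ext fun z => congrArg l ((P F hF).symm_apply_apply z)⟩⟩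
    ((hΦ₁ _ (hpq F hF)).comp (hc F hF))

end Groth.L17.CartierDual
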