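import Groth.Agent.L12.VBLift.Small
import Groth.Agent.L12.HypSq.Graph
import Groth.Agent.L29.DCoh.PullTensor
import Groth.Agent.L22.PDual.TwistExt
import Groth.Agent.L13.PointBlow.Twist
import Groth.Agent.L21.RR.Twist
import Groth.Agent.L00.TensorQCoh
import Groth.Agent.L18.IdealModule
import Groth.Agent.L22.Reg.Mult
import Groth.Agent.L16.AffineBC.Pullback
import Mathlib.Algebra.Homology.DerivedCategory.Ext.ExactSequences

/-!
# Extensions by a module along an effective Cartier divisor
-/

set_option autoImplicit false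
set_option backward.isDefEq.respectTransparency false
set_option linter.style.haveILetI false

universe u

open CategoryTheory CategoryTheory.Limits AlgebraicGeometry CategoryTheory.Abelian

noncomputable section

namespace Groth.L17.CartierDual

open Groth.L00.Tensor (tensorMap tensorIso tensorComm tensorAssoc tensorUnitLeft tensorUnitRight tensorLeftF
  tensorRightF tensorFlipIso)
open Groth.L12.VBLift (eta)

variable {D X : Scheme.{u}} (i : D ⟶ X) [IsClosedImmersion i] {OD : X.Modules}

/-- The canonical section of `O(D)`. -/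
theorem exists_section (hI : PicF.IsInvertible (ClSub.idealMod i.ker))
    (hOD : ClSub.IsInverseOf OD (ClSub.idealMod i.ker)) :
    ∃ (s : Coh.structureModule X ⟶ OD) (w : s ≫ eta i OD = 0),
      (ShortComplex.mk s (eta i OD) w).ShortExact ∧ (Scheme.Modules.pullback i).map s = 0 := by
  have hODi := Groth.L13.PointBlow.isInvertible_of_isInverseOf hI hOD
  obtain ⟨κ, w, hS, -⟩ := Groth.L12.VBLift.exists_restrict_seq_of_closedImmersion i OD
    (Groth.L21.RR.isFlat_of_isInvertible hODi)
  obtain ⟨eK⟩ := Groth.L12.HypSq.nonempty_kernel_iso_idealMod i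
  obtain ⟨e⟩ := hOD
  let E : CohB1.tensorMod OD (kernel (ClSub.unitToPush i)) ≅ Coh.structureModule X :=
    tensorIso (Iso.refl _) eK ≪≫ e
  have w' : (E.inv ≫ κ) ≫ eta i OD = 0 := by rw [Category.assoc, w, comp_zero]
  refine ⟨E.inv ≫ κ, w', ShortComplex.shortExact_of_iso ?_ hS, ?_⟩
  · exact ShortComplex.isoMk E (Iso.refl _) (Iso.refl _) (by simp) (by simp)
  · apply ((Scheme.Modules.pullbackPushforwardAdjunction i).homEquiv _ _).injective
    rw [Adjunction.homEquiv_unit, Adjunction.homEquiv_unit, Functor.map_zero, comp_zero]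
    exact ((Scheme.Modules.pullbackPushforwardAdjunction i).unit.naturality (E.inv ≫ κ)).symm.trans w'

variable (s : Coh.structureModule X ⟶ OD)

/-- Multiplication by the canonical section. -/
def mulS (M : X.Modules) : M ⟶ CohB1.tensorMod OD M :=
  (tensorUnitLeft M).inv ≫ tensorMap s (𝟙 M)

theorem tensorUnitLeft_natural {M N : X.Modules} (f : M ⟶ N) :
    tensorMap (𝟙 (Coh.structureModule X)) f ≫ (tensorUnitLeft N).hom = (tensorUnitLeft M).hom ≫ f := by
  refine Groth.L16.HomSh.hom_ext_tens fun W r m => ?_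
  show (tensorUnitLeft N).hom.app W ((tensorMap (𝟙 _) f).app W (Groth.L18.GenLoc.tens _ M W r m)) =
    f.app W ((tensorUnitLeft M).hom.app W (Groth.L18.GenLoc.tens _ M W r m))
  rw [Groth.L16.HomSh.tensorMap_tens, Groth.L22.Reg.tensorUnitLeft_tens,
    Groth.L22.Reg.tensorUnitLeft_tens]
  exact (Scheme.Modules.Hom.app_smul f _ _).symm

theorem mulS_natural {M N : X.Modules} (f : M ⟶ N) :
    f ≫ mulS s N = mulS s M ≫ tensorMap (𝟙 OD) f := by
  have h : f ≫ (tensorUnitLeft N).inv = (tensorUnitLeft M).inv ≫ tensorMap (𝟙 (Coh.structureModule X)) f := by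
    rw [Iso.eq_inv_comp, ← Category.assoc, ← tensorUnitLeft_natural, Category.assoc, Iso.hom_inv_id,
      Category.comp_id]
  simp only [mulS, ← Category.assoc, h]
  simp only [Category.assoc, ← Groth.L00.Tensor.tensorMap_comp, Category.id_comp, Category.comp_id]

/-- The canonical section kills modules from the divisor. -/
theorem mulS_push (hs : (Scheme.Modules.pullback i).map s = 0) (G : D.Modules) :
    mulS s ((Scheme.Modules.pushforward i).obj G) = 0 := by
  haveI := Groth.L17.ClosedPush.isIso_θ i G OD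
  have h : tensorMap s (𝟙 ((Scheme.Modules.pushforward i).obj G)) = 0 := by
    rw [← cancel_mono (Groth.L17.ClosedPush.θ i G OD), Groth.L17.ClosedPush.θ_natural i G s, zero_comp, hs,
      show tensorMap (0 : (Scheme.Modules.pullback i).obj (Coh.structureModule X) ⟶ (Scheme.Modules.pullback i).obj OD)
        (𝟙 G) = 0 from (tensorRightF G).map_zero _ _, Functor.map_zero, comp_zero]
  rw [mulS, h, comp_zero]

/-- The cokernel of multiplication by the canonical section. -/
theorem exists_coker (w : s ≫ eta i OD = 0) (hS : (ShortComplex.mk s (eta i OD) w).ShortExact)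
    (M : X.Modules) :
    ∃ (π : CohB1.tensorMod OD M ⟶
        (Scheme.Modules.pushforward i).obj ((Scheme.Modules.pullback i).obj (CohB1.tensorMod OD M)))
      (w' : mulS s M ≫ π = 0), (ShortComplex.mk (mulS s M) π w').Exact ∧ Epi π := by
  let T := tensorRightF M
  haveI : (tensorLeftF M).IsLeftAdjoint := (Groth.L16.HomSh.tensorHomAdj M).isLeftAdjoint
  haveI : T.IsLeftAdjoint := Functor.isLeftAdjoint_of_iso (tensorFlipIso M).symm
  haveI : T.Additive :=
    haveI := preservesBinaryBiproducts_of_preservesBinaryCoproducts T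
    Functor.additive_of_preservesBinaryBiproducts _
  haveI := hS.epi_g
  have hT : ((ShortComplex.mk s (eta i OD) w).map T).Exact :=
    ShortComplex.exact_of_g_is_cokernel _ (CokernelCofork.mapIsColimit _ hS.gIsCokernel T)
  haveI := Groth.L17.ClosedPush.isIso_θ i ((Scheme.Modules.pullback i).obj OD) M
  let eQ : T.obj ((Scheme.Modules.pushforward i).obj ((Scheme.Modules.pullback i).obj OD)) ≅
      (Scheme.Modules.pushforward i).obj ((Scheme.Modules.pullback i).obj (CohB1.tensorMod OD M)) :=
    tensorComm _ M ≪≫ asIso (Groth.L17.ClosedPush.θ i ((Scheme.Modules.pullback i).obj OD) M) ≪≫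
      (Scheme.Modules.pushforward i).mapIso (tensorComm _ _ ≪≫ Groth.L29.DC.PullTensor.pullTensor i OD M)
  let π := T.map (eta i OD) ≫ eQ.hom
  have w' : mulS s M ≫ π = 0 := by
    show ((tensorUnitLeft M).inv ≫ T.map s) ≫ T.map (eta i OD) ≫ eQ.hom = 0
    rw [Category.assoc, ← T.map_comp_assoc, w, Functor.map_zero, zero_comp, comp_zero]
  refine ⟨π, w', (ShortComplex.exact_iff_of_iso ?_).1 hT, inferInstanceAs (Epi (T.map (eta i OD) ≫ eQ.hom))⟩
  refine ShortComplex.isoMk (tensorUnitLeft M) (Iso.refl _) eQ ?_ ?_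
  · show (tensorUnitLeft M).hom ≫ mulS s M = T.map s ≫ 𝟙 _
    rw [mulS, Iso.hom_inv_id_assoc, Category.comp_id]
    rfl
  · exact Category.id_comp _

section Pushed

variable (hI : PicF.IsInvertible (ClSub.idealMod i.ker)) (hOD : ClSub.IsInverseOf OD (ClSub.idealMod i.ker))

include hI hOD in
/-- A module killed by the canonical section comes from the divisor. -/
theorem exists_push_of_mulS (w : s ≫ eta i OD = 0) (hS : (ShortComplex.mk s (eta i OD) w).ShortExact)
    (M : X.Modules) [Coh.IsQCoh M] (h : mulS s M = 0) :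
    ∃ G : D.Modules, Coh.IsQCoh G ∧ Nonempty (M ≅ (Scheme.Modules.pushforward i).obj G) := by
  obtain ⟨π, w', hex, hπ⟩ := exists_coker i s w hS M
  haveI : Mono π := hex.mono_g h
  haveI : IsIso π := isIso_of_mono_of_epi π
  obtain ⟨e⟩ := hOD
  let B := (Scheme.Modules.pullback i).obj (CohB1.tensorMod OD M)
  let I := ClSub.idealMod i.ker
  haveI := Groth.L21.Extend.isQCoh_of_isInvertible hI
  haveI := Groth.L21.Extend.isQCoh_of_isInvertible (Groth.L13.PointBlow.isInvertible_of_isInverseOf hI ⟨e⟩)
  haveI := Groth.L00.Tensor.isQCoh_tensorMod OD M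
  haveI := Groth.L17.ClosedPush.isIso_θ i B I
  haveI : Coh.IsQCoh ((Scheme.Modules.pullback i).obj I) := Groth.L16.AffineBC.isQCoh_pullback i I
  haveI : Coh.IsQCoh B := Groth.L16.AffineBC.isQCoh_pullback i _
  exact ⟨CohB1.tensorMod ((Scheme.Modules.pullback i).obj I) B, Groth.L00.Tensor.isQCoh_tensorMod _ _,
    ⟨(tensorUnitLeft M).symm ≪≫ tensorIso (e.symm ≪≫ tensorComm _ _) (Iso.refl M) ≪≫ tensorAssoc _ _ _ ≪≫
      tensorIso (Iso.refl _) (asIso π) ≪≫ asIso (Groth.L17.ClosedPush.θ i B I)⟩⟩

variable {W : X.Modules} [Coh.IsQCoh W]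
  (hW : ∀ G : D.Modules, Coh.IsQCoh G → ∀ φ : (Scheme.Modules.pushforward i).obj G ⟶ W, φ = 0)

include hI hOD hW in
theorem mono_mulS (w : s ≫ eta i OD = 0) (hS : (ShortComplex.mk s (eta i OD) w).ShortExact) :
    Mono (mulS s W) := by
  haveI := Groth.L21.Extend.isQCoh_of_isInvertible (Groth.L13.PointBlow.isInvertible_of_isInverseOf hI hOD)
  haveI := Groth.L00.Tensor.isQCoh_tensorMod OD W
  haveI := Groth.L22.PDual.isEquivalence_tensorRightF hOD.some
  haveI : (tensorLeftF OD).IsEquivalence := Functor.isEquivalence_of_iso (tensorFlipIso OD)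
  refine Preadditive.mono_of_kernel_zero ?_
  haveI : Coh.IsQCoh (kernel (mulS s W)) := Groth.L18.IdealModule.isQCoh_kernel _
  have h : mulS s (kernel (mulS s W)) = 0 := by
    rw [← cancel_mono ((tensorLeftF OD).map (kernel.ι (mulS s W))), zero_comp]
    exact (mulS_natural s (kernel.ι (mulS s W))).symm.trans (kernel.condition _)
  obtain ⟨G, hG, ⟨e⟩⟩ := exists_push_of_mulS i s hI hOD w hS _ h
  rw [← cancel_epi e.inv, hW G hG (e.inv ≫ kernel.ι _), comp_zero]

omit [Coh.IsQCoh W] in
include hI hOD hW in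
theorem hom_eq_zero (G : D.Modules) (hG : Coh.IsQCoh G)
    (φ : (Scheme.Modules.pushforward i).obj G ⟶ CohB1.tensorMod OD W) : φ = 0 := by
  obtain ⟨e⟩ := hOD
  let I := ClSub.idealMod i.ker
  haveI := Groth.L22.PDual.isEquivalence_tensorRightF (tensorComm I OD ≪≫ e)
  haveI : (tensorLeftF I).IsEquivalence := Functor.isEquivalence_of_iso (tensorFlipIso I)
  haveI : (tensorLeftF I).Additive :=
    haveI : (tensorLeftF I).IsLeftAdjoint := inferInstance
    haveI := preservesBinaryBiproducts_of_preservesBinaryCoproducts (tensorLeftF I)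
    Functor.additive_of_preservesBinaryBiproducts _
  haveI := Groth.L21.Extend.isQCoh_of_isInvertible hI
  haveI := hG
  haveI := Groth.L17.ClosedPush.isIso_θ i G I
  haveI : Coh.IsQCoh ((Scheme.Modules.pullback i).obj I) := Groth.L16.AffineBC.isQCoh_pullback i I
  apply (tensorLeftF I).map_injective
  rw [Functor.map_zero]
  let a : CohB1.tensorMod I ((Scheme.Modules.pushforward i).obj G) ≅ (Scheme.Modules.pushforward i).obj
      (CohB1.tensorMod ((Scheme.Modules.pullback i).obj I) G) := asIso (Groth.L17.ClosedPush.θ i G I)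
  let b : CohB1.tensorMod I (CohB1.tensorMod OD W) ≅ W :=
    (tensorAssoc I OD W).symm ≪≫ tensorIso (tensorComm I OD ≪≫ e) (Iso.refl W) ≪≫ tensorUnitLeft W
  have h0 := hW _ (Groth.L00.Tensor.isQCoh_tensorMod ((Scheme.Modules.pullback i).obj I) G)
    (a.inv ≫ (tensorLeftF I).map φ ≫ b.hom)
  rw [← cancel_epi a.inv, ← cancel_mono b.hom, comp_zero, zero_comp, Category.assoc]
  exact h0

variable [HasExt.{u} X.Modules]

include hI hOD hW in
/-- `Ext¹(i_* G, W) = Hom(i_* G, i_* i^*(O(D) ⊗ W))`. -/
theorem bijective_connecting (hs : (Scheme.Modules.pullback i).map s = 0)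
    {Q : X.Modules} (π : CohB1.tensorMod OD W ⟶ Q) (w' : mulS s W ≫ π = 0)
    (hSW : (ShortComplex.mk (mulS s W) π w').ShortExact)
    (G : D.Modules) (hG : Coh.IsQCoh G) :
    Function.Bijective fun φ : (Scheme.Modules.pushforward i).obj G ⟶ Q =>
      (Ext.mk₀ φ).comp hSW.extClass (zero_add 1) := by
  let A := (Scheme.Modules.pushforward i).obj G
  constructor
  · intro φ φ' hφ
    refine sub_eq_zero.1 ?_
    have h : (Ext.mk₀ (φ - φ')).comp hSW.extClass (zero_add 1) = 0 := by
      rw [sub_eq_add_neg, Ext.mk₀_add, Ext.mk₀_neg, Ext.add_comp, Ext.neg_comp, ← sub_eq_add_neg, sub_eq_zero]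
      exact hφ
    obtain ⟨y, hy⟩ := Ext.covariant_sequence_exact₃ A hSW _ (zero_add 1) h
    obtain ⟨g, rfl⟩ := (Ext.mk₀_bijective A _).2 y
    rw [Ext.mk₀_comp_mk₀] at hy
    rw [← (Ext.mk₀_bijective A Q).1 hy, hom_eq_zero i hI hOD hW G hG g, zero_comp]
  · intro x
    have hx : x.comp (Ext.mk₀ (mulS s W)) (add_zero 1) = 0 := by
      let J : ShortComplex X.Modules :=
        ShortComplex.mk (Injective.ι W) (cokernel.π (Injective.ι W)) (cokernel.condition _)
      haveI := Groth.L00.Tensor.grothendieckAbelian_modules X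
      have hJ : J.ShortExact := { exact := ShortComplex.exact_cokernel _ }
      haveI : Subsingleton (Ext A J.X₂ 1) :=
        subsingleton_of_forall_eq 0 fun z => Ext.eq_zero_of_injective z
      obtain ⟨f, hf⟩ := Ext.covariant_sequence_exact₁ A hJ x (Subsingleton.elim _ _) (zero_add 1)
      obtain ⟨f, rfl⟩ := (Ext.mk₀_bijective A _).2 f
      haveI := Groth.L22.PDual.isEquivalence_tensorRightF hOD.some
      haveI : (tensorLeftF OD).IsEquivalence := Functor.isEquivalence_of_iso (tensorFlipIso OD)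
      haveI : (tensorLeftF OD).Additive :=
        haveI := preservesBinaryBiproducts_of_preservesBinaryCoproducts (tensorLeftF OD)
        Functor.additive_of_preservesBinaryBiproducts _
      have hTJ := hJ.map_of_exact (tensorLeftF OD)
      let m : J ⟶ J.map (tensorLeftF OD) :=
        { τ₁ := mulS s _
          τ₂ := mulS s _
          τ₃ := mulS s _
          comm₁₂ := (mulS_natural s _).symm
          comm₂₃ := (mulS_natural s _).symm }
      rw [← hf, Ext.comp_assoc_of_third_deg_zero]
      rw [ShortComplex.ShortExact.extClass_naturality hJ hTJ m, ← Ext.comp_assoc_of_second_deg_zero,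
        Ext.mk₀_comp_mk₀]
      show (Ext.mk₀ (f ≫ mulS s _)).comp _ _ = 0
      rw [mulS_natural, show mulS s A = 0 from mulS_push i s hs G, zero_comp, Ext.mk₀_zero, Ext.zero_comp]
    obtain ⟨y, hy⟩ := Ext.covariant_sequence_exact₁ A hSW x hx (zero_add 1)
    obtain ⟨φ, rfl⟩ := (Ext.mk₀_bijective A _).2 y
    exact ⟨φ, hy⟩

end Pushed

end Groth.L17.CartierDual
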